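import Groth.Agent.EtAlg.K750.RefN7a
import Groth.Agent.EtAlg.K589.RefN3
import Groth.Agent.EtAlg.K956.RefN4
import Groth.Agent.EtAlg.K315.RefN6

/-!
# Node N7 of the refutation of S7162: the fields `MM s1`, `MM s2`
-/

set_option autoImplicit false

namespace Groth.Agent.EtAlg.K750.RefN7

open Groth.Agent.EtAlg.K405 Groth.Agent.Etalg.EppFrame Groth.Agent.Etalg.EppVal Polynomial
open Groth.Agent.EtAlg.K416.RefN2 Groth.Agent.EtAlg.K750.RefN7a

variable {Ω : Type} [NormedField Ω]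

/-- `s` is not a square in `kk` -/
theorem not_sq [CharP Ω 2] (C : Ctx Ω) : ∀ x ∈ C.kk, x ^ 2 ≠ C.s := by
  intro x hx h
  have : Fact (Nat.Prime 2) := ⟨Nat.prime_two⟩
  have : CharP C.k0 2 := (algebraMap C.k0 Ω).charP (algebraMap C.k0 Ω).injective 2
  have h1 := IntermediateField.adjoin_simple_eq_adjoin_pow_expChar_pow_of_isSeparable C.k0 Ω (C.mem_kk.1 hx) 2 1
  have h2 : x ∈ IntermediateField.adjoin C.k0 {x ^ 2 ^ 1} := by
    rw [← h1]
    exact IntermediateField.mem_adjoin_simple_self _ _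
  have h3 : IntermediateField.adjoin C.k0 {C.s} = ⊥ :=
    (IntermediateField.adjoin_simple_eq_bot_iff (F := C.k0) (α := C.s)).2
      (IntermediateField.mem_bot.2 ⟨⟨C.s, C.s_mem⟩, rfl⟩)
  rw [pow_one, h, h3, IntermediateField.mem_bot] at h2
  obtain ⟨y, rfl⟩ := h2
  exact C.s_not_sq _ y.2 h

/-- squares in `kk` -/
theorem sq_kk [CharP Ω 2] (C : Ctx Ω) : ∀ x ∈ C.kk, ∃ a ∈ C.kk, ∃ b ∈ C.kk, x = a ^ 2 + C.s * b ^ 2 := by
  intro x hx
  have : Fact (Nat.Prime 2) := ⟨Nat.prime_two⟩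
  have : CharP C.k0 2 := (algebraMap C.k0 Ω).charP (algebraMap C.k0 Ω).injective 2
  have hx2 : IsIntegral C.k0 (x ^ 2) := (C.mem_kk.1 hx).isIntegral.pow 2
  have h1 := IntermediateField.adjoin_simple_eq_adjoin_pow_expChar_pow_of_isSeparable C.k0 Ω (C.mem_kk.1 hx) 2 1
  rw [pow_one] at h1
  have h2 : x ∈ Algebra.adjoin C.k0 {x ^ 2} := by
    have h3 : x ∈ IntermediateField.adjoin C.k0 {x ^ 2} := by
      rw [← h1]
      exact IntermediateField.mem_adjoin_simple_self _ _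
    rw [← IntermediateField.adjoin_simple_toSubalgebra_of_isAlgebraic hx2.isAlgebraic]
    exact h3
  rw [Algebra.adjoin_singleton_eq_range_aeval] at h2
  obtain ⟨p, hp⟩ := h2
  have hp' : aeval (x ^ 2) p = x := hp
  choose a ha b hb hab using fun i => C.k0_sq (p.coeff i) (p.coeff i).2
  refine ⟨∑ i ∈ Finset.range (p.natDegree + 1), a i * x ^ i, sum_mem fun i _ =>
    mul_mem (C.k0_le_kk (ha i)) (pow_mem hx _), ∑ i ∈ Finset.range (p.natDegree + 1), b i * x ^ i,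
    sum_mem fun i _ => mul_mem (C.k0_le_kk (hb i)) (pow_mem hx _), ?_⟩
  rw [sum_pow_char, sum_pow_char, Finset.mul_sum, ← Finset.sum_add_distrib]
  conv_lhs => rw [← hp', aeval_eq_sum_range]
  refine Finset.sum_congr rfl fun i _ => ?_
  rw [Algebra.smul_def]
  change (p.coeff i : Ω) * _ = _
  rw [hab i]
  ring

variable [IsUltrametricDist Ω] [IsAlgClosed Ω] [CharP Ω 2] (C : Ctx Ω)

/-- the hypothesis of `RefN7a.normLe_MM` -/
theorem norm_mem (m : ℕ) (e e' : Fin (2 ^ m) → Ω) (he' : ∀ i, e' i ∈ C.kb) (hli : LinearIndependent C.kk e')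
    (he : ∀ i, ‖e i - e' i‖ < 1) (c : Fin (2 ^ m) → Ω) (hc : ∀ i, c i ∈ C.FF) :
    ∃ y ∈ C.FF, ‖y‖ = ‖∑ j, c j * e j‖ :=
  K589.RefN3.N3_norm_mem (fun _ hx h0 => N2a_norm_kb C hx h0) C.kk_le_kb (K956.RefN4.N4b_res C) e e' he' hli he c hc

omit [IsUltrametricDist Ω] [IsAlgClosed Ω] in
theorem li_pow (m : ℕ) (ω : Ω) (hω : ω ^ 2 ^ m = C.s) :
    LinearIndependent C.kk (fun j : Fin (2 ^ m) => ω ^ (j : ℕ)) :=
  K315.RefN6.N6_li C.kk m (by rw [hω]; exact C.k0_le_kk C.s_mem) fun b hb => by rw [hω]; exact not_sq C b hb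

/-- `|MM a| = |FF|` -/
theorem normLe (a : Ω) (ha : a = C.s1 ∨ a = C.s2) : NormLe C.FF (C.MM a) :=
  normLe_MM C (norm_mem C) (li_pow C) a ha

theorem N7a_disc (a : Ω) (ha : a = C.s1 ∨ a = C.s2) : Disc (C.MM a) C.t :=
  disc_MM C (norm_mem C) (li_pow C) (K956.RefN4.N4a_disc C) a ha

theorem N7b_res (a : Ω) (ha : a = C.s1 ∨ a = C.s2) : ResFull (C.MM a) := res_MM C (sq_kk C) a ha

theorem N7d_pi (a : Ω) (ha : a = C.s1 ∨ a = C.s2) : ∀ x ∈ C.MM a, ∃ m : ℕ, x ^ 2 ^ m ∈ C.FF :=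
  RefN7a.N7d_pi C a ha

end Groth.Agent.EtAlg.K750.RefN7
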