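import Groth.Agent.EtAlg.K405.Ctx
import Groth.Agent.EtAlg.K416.RefN2
import Mathlib.FieldTheory.PurelyInseparable.PerfectClosure
import Mathlib.FieldTheory.SeparableDegree

/-!
# Node N7 of the refutation of S7162: the fields `MM s1`, `MM s2` (other open nodes as hypotheses)
-/

set_option autoImplicit false

namespace Groth.Agent.EtAlg.K750.RefN7a

open Groth.Agent.EtAlg.K405 Groth.Agent.Etalg.EppFrame Groth.Agent.Etalg.EppVal Polynomial
open Groth.Agent.EtAlg.K416.RefN2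

/-! ### Generalities in characteristic two -/

section gen

variable {Ω : Type} [Field Ω]

theorem pow_inj [CharP Ω 2] {x y : Ω} {m : ℕ} (h : x ^ 2 ^ m = y ^ 2 ^ m) : x = y := by
  have : Fact (Nat.Prime 2) := ⟨Nat.prime_two⟩
  exact iterateFrobenius_inj Ω 2 m (by simpa [iterateFrobenius_def] using h)

theorem exists_root [IsAlgClosed Ω] (a : Ω) (m : ℕ) : ∃ y : Ω, y ^ 2 ^ m = a :=
  IsAlgClosed.exists_pow_nat_eq a (by positivity)

theorem exists_pow_separable [CharP Ω 2] (k : Subfield Ω) {b : Ω} (hb : IsAlgebraic k b) :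
    ∃ m : ℕ, IsSeparable k (b ^ 2 ^ m) := by
  have : Fact (Nat.Prime 2) := ⟨Nat.prime_two⟩
  have : CharP k 2 := (algebraMap k Ω).charP (algebraMap k Ω).injective 2
  have hi : IsIntegral k b := hb.isIntegral
  obtain ⟨g, hg, n, hn⟩ := (minpoly.irreducible hi).hasSeparableContraction 2
  refine ⟨n, ?_⟩
  have h1 : aeval (b ^ 2 ^ n) g = 0 := by
    rw [← expand_aeval, hn]
    exact minpoly.aeval _ _
  exact hg.of_dvd (minpoly.dvd _ _ h1)

theorem exists_pow_mem [CharP Ω 2] {F : Subfield Ω} {a : Ω} (ha : a ∈ F) {x : Ω}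
    (hx : x ∈ F ⊔ Subfield.closure {y : Ω | ∃ m : ℕ, y ^ 2 ^ m = a}) : ∃ n : ℕ, x ^ 2 ^ n ∈ F := by
  have : Fact (Nat.Prime 2) := ⟨Nat.prime_two⟩
  have : CharP F 2 := (algebraMap F Ω).charP (algebraMap F Ω).injective 2
  have key : ∀ y, y ∈ (perfectClosure F Ω).toSubfield ↔ ∃ n : ℕ, y ^ 2 ^ n ∈ F := by
    intro y
    rw [IntermediateField.mem_toSubfield, mem_perfectClosure_iff_pow_mem 2]
    constructor
    · rintro ⟨n, u, hu⟩
      exact ⟨n, hu ▸ u.2⟩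
    · rintro ⟨n, hn⟩
      exact ⟨n, ⟨_, hn⟩, rfl⟩
  rw [← key]
  refine (sup_le (fun y hy => (key y).2 ⟨0, by simpa using hy⟩) ?_ :
    F ⊔ Subfield.closure {y : Ω | ∃ m : ℕ, y ^ 2 ^ m = a} ≤ _) hx
  rw [Subfield.closure_le]
  rintro y ⟨m, rfl⟩
  exact (key y).2 ⟨m, ha⟩

/-- the elements of the tower which are polynomials in a root of `a` -/
theorem exists_poly [IsAlgClosed Ω] [CharP Ω 2] {F : Subfield Ω} {a : Ω} (ha : a ∈ F) {x : Ω}
    (hx : x ∈ F ⊔ Subfield.closure {y : Ω | ∃ m : ℕ, y ^ 2 ^ m = a}) :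
    ∃ (m : ℕ) (η : Ω) (p : Polynomial F), η ^ 2 ^ m = a ∧ aeval η p = x := by
  have key : ∀ (m m' : ℕ) (η : Ω), η ^ 2 ^ m = a → ∀ (ξ : Ω), ξ ^ 2 ^ (m + m') = a → ∀ p : Polynomial F,
      aeval η p = aeval ξ (expand F (2 ^ m') p) := by
    intro m m' η hη ξ hξ p
    have h1 : η = ξ ^ 2 ^ m' := by
      refine pow_inj (m := m) ?_
      rw [hη, ← hξ, ← pow_mul, ← pow_add, add_comm]
    rw [expand_aeval, h1]
  let T : Subring Ω :=
    { carrier := {x | ∃ (m : ℕ) (η : Ω) (p : Polynomial F), η ^ 2 ^ m = a ∧ aeval η p = x}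
      zero_mem' := ⟨0, a, 0, by simp, by simp⟩
      one_mem' := ⟨0, a, 1, by simp, by simp⟩
      neg_mem' := by
        rintro _ ⟨m, η, p, hη, rfl⟩
        exact ⟨m, η, -p, hη, by simp⟩
      add_mem' := by
        rintro _ _ ⟨m, η, p, hη, rfl⟩ ⟨m', η', p', hη', rfl⟩
        obtain ⟨ξ, hξ⟩ := exists_root a (m + m')
        refine ⟨m + m', ξ, expand F (2 ^ m') p + expand F (2 ^ m) p', hξ, ?_⟩
        rw [map_add, ← key m m' η hη ξ hξ, ← key m' m η' hη' ξ (by rw [add_comm]; exact hξ)]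
      mul_mem' := by
        rintro _ _ ⟨m, η, p, hη, rfl⟩ ⟨m', η', p', hη', rfl⟩
        obtain ⟨ξ, hξ⟩ := exists_root a (m + m')
        refine ⟨m + m', ξ, expand F (2 ^ m') p * expand F (2 ^ m) p', hξ, ?_⟩
        rw [map_mul, ← key m m' η hη ξ hξ, ← key m' m η' hη' ξ (by rw [add_comm]; exact hξ)] }
  have hTle : ∀ y ∈ T, y ∈ F ⊔ Subfield.closure {y : Ω | ∃ m : ℕ, y ^ 2 ^ m = a} := by
    rintro _ ⟨m, η, p, hη, rfl⟩
    rw [aeval_eq_sum_range]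
    refine sum_mem fun i _ => ?_
    rw [Algebra.smul_def]
    refine mul_mem ((le_sup_left : F ≤ _) (p.coeff i).2) (pow_mem ?_ _)
    exact (le_sup_right : Subfield.closure {y : Ω | ∃ m : ℕ, y ^ 2 ^ m = a} ≤ F ⊔ _)
      (Subfield.subset_closure ⟨m, hη⟩)
  have hF : ∀ y ∈ F, y ∈ T := fun y hy => ⟨0, a, C ⟨y, hy⟩, by simp, by rw [aeval_C]; rfl⟩
  let T' : Subfield Ω :=
    { T with
      inv_mem' := by
        intro y hy
        change y ∈ T at hy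
        change y⁻¹ ∈ T
        obtain ⟨n, hn⟩ := exists_pow_mem ha (hTle y hy)
        have h1 : y⁻¹ = y ^ (2 ^ n - 1) * (y ^ 2 ^ n)⁻¹ := by
          by_cases h0 : y = 0
          · subst h0
            simp
          · have h2 : y ^ 2 ^ n = y ^ (2 ^ n - 1) * y := by
              rw [← pow_succ, Nat.sub_add_cancel Nat.one_le_two_pow]
            rw [h2, mul_inv, ← mul_assoc, mul_inv_cancel₀ (pow_ne_zero _ h0), one_mul]
        rw [h1]
        exact mul_mem (pow_mem hy _) (hF _ (inv_mem hn)) }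
  have hle : F ⊔ Subfield.closure {y : Ω | ∃ m : ℕ, y ^ 2 ^ m = a} ≤ T' := by
    refine sup_le hF ?_
    rw [Subfield.closure_le]
    rintro y ⟨m, hy⟩
    exact ⟨m, y, X, hy, by simp⟩
  exact hle hx

/-- the elements of the tower in coordinates -/
theorem exists_coord [IsAlgClosed Ω] [CharP Ω 2] {F : Subfield Ω} {a : Ω} (ha : a ∈ F) {x : Ω}
    (hx : x ∈ F ⊔ Subfield.closure {y : Ω | ∃ m : ℕ, y ^ 2 ^ m = a}) :
    ∃ (m : ℕ) (η : Ω) (c : Fin (2 ^ m) → Ω), η ^ 2 ^ m = a ∧ (∀ i, c i ∈ F) ∧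
      x = ∑ i, c i * η ^ (i : ℕ) := by
  obtain ⟨m, η, p, hη, rfl⟩ := exists_poly ha hx
  let q : Polynomial F := X ^ 2 ^ m - C ⟨a, ha⟩
  have hq : q.Monic := monic_X_pow_sub_C _ (by positivity)
  have hqη : aeval η q = 0 := by
    rw [map_sub, map_pow, aeval_X, aeval_C, hη]
    exact sub_self _
  refine ⟨m, η, fun i => ((p %ₘ q).coeff i : F), hη, fun i => ((p %ₘ q).coeff i).2, ?_⟩
  have h1 : aeval η p = aeval η (p %ₘ q) := by
    conv_lhs => rw [← modByMonic_add_div p q]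
    rw [map_add, map_mul, hqη, zero_mul, add_zero]
  have h2 : (p %ₘ q).natDegree < 2 ^ m := by
    have h3 := natDegree_modByMonic_lt p hq (by
      intro h
      have := congrArg natDegree h
      rw [natDegree_X_pow_sub_C, natDegree_one] at this
      exact absurd this (by positivity))
    rwa [natDegree_X_pow_sub_C] at h3
  rw [h1, aeval_eq_sum_range' h2, Finset.sum_range]
  refine Finset.sum_congr rfl fun i _ => ?_
  rw [Algebra.smul_def]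
  rfl

end gen

section ultra

variable {Ω : Type} [NormedField Ω] [IsUltrametricDist Ω]

theorem norm_add_lt_one {x y : Ω} (hx : ‖x‖ < 1) (hy : ‖y‖ < 1) : ‖x + y‖ < 1 :=
  (IsUltrametricDist.norm_add_le_max x y).trans_lt (max_lt hx hy)

theorem norm_add_le_one {x y : Ω} (hx : ‖x‖ ≤ 1) (hy : ‖y‖ ≤ 1) : ‖x + y‖ ≤ 1 :=
  (IsUltrametricDist.norm_add_le_max x y).trans (max_le hx hy)

omit [IsUltrametricDist Ω] in
theorem norm_mul_lt_one {x y : Ω} (hx : ‖x‖ < 1) (hy : ‖y‖ ≤ 1) : ‖x * y‖ < 1 := by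
  rw [norm_mul]
  calc ‖x‖ * ‖y‖ ≤ ‖x‖ * 1 := by gcongr
    _ < 1 := by rwa [mul_one]

theorem norm_pow_sub_pow_lt {x y : Ω} (h : ‖x - y‖ < 1) (hx : ‖x‖ ≤ 1) (hy : ‖y‖ ≤ 1) (j : ℕ) :
    ‖x ^ j - y ^ j‖ < 1 := by
  induction j with
  | zero => simp
  | succ j ih =>
    have h1 : x ^ (j + 1) - y ^ (j + 1) = (x - y) * x ^ j + (x ^ j - y ^ j) * y := by ring
    rw [h1]
    refine norm_add_lt_one (norm_mul_lt_one h ?_) (norm_mul_lt_one ih hy)
    rw [norm_pow]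
    exact pow_le_one₀ (norm_nonneg _) hx

omit [IsUltrametricDist Ω] in
theorem norm_lt_one_of_pow {x : Ω} {n : ℕ} (hn : n ≠ 0) (h : ‖x ^ n‖ < 1) : ‖x‖ < 1 := by
  rw [norm_pow] at h
  exact (pow_lt_one_iff_of_nonneg (norm_nonneg _) hn).1 h

omit [IsUltrametricDist Ω] in
theorem norm_le_one_of_pow {x : Ω} {n : ℕ} (hn : n ≠ 0) (h : ‖x ^ n‖ ≤ 1) : ‖x‖ ≤ 1 := by
  rw [norm_pow] at h
  exact (pow_le_one_iff_of_nonneg (norm_nonneg _) hn).1 h

end ultra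

section ctx

variable {Ω : Type} [NormedField Ω] [IsUltrametricDist Ω] [IsAlgClosed Ω] [CharP Ω 2] (C : Ctx Ω)

omit [IsUltrametricDist Ω] [IsAlgClosed Ω] in
theorem r_mem_kk : C.r ∈ C.kk := by
  have : CharP C.k0 2 := (algebraMap C.k0 Ω).charP (algebraMap C.k0 Ω).injective 2
  rw [C.mem_kk]
  have h2 : (2 : Polynomial C.k0) = 0 := CharP.cast_eq_zero _ 2
  have h1 : (X ^ 2 + X + 1 : Polynomial C.k0).Separable := by
    rw [Polynomial.separable_def]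
    have h3 : derivative (X ^ 2 + X + 1 : Polynomial C.k0) = 1 := by
      have h4 : (Polynomial.C 2 : Polynomial C.k0) = 0 := by
        rw [← h2]
        rfl
      simp [one_add_one_eq_two, h4]
    rw [h3]
    exact isCoprime_one_right
  refine h1.of_dvd (minpoly.dvd _ _ ?_)
  simpa using C.r_eq

omit [IsUltrametricDist Ω] [IsAlgClosed Ω] in
theorem a_mem_FF {a : Ω} (ha : a = C.s1 ∨ a = C.s2) : a ∈ C.FF := by
  have hs : C.s ∈ C.FF := C.K_le_FF C.s_mem_K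
  have hr : C.r ∈ C.FF := C.kk_le_FF (r_mem_kk C)
  have ht : C.t ∈ C.FF := C.K_le_FF C.t_mem
  rcases ha with rfl | rfl
  · exact add_mem hs (mul_mem hr ht)
  · exact add_mem hs (mul_mem (add_mem hr (one_mem _)) ht)

omit [IsAlgClosed Ω] in
theorem norm_a_sub_s {a : Ω} (ha : a = C.s1 ∨ a = C.s2) : ‖a - C.s‖ < 1 := by
  have hr : ‖C.r‖ ≤ 1 := norm_le_one_of_mem_kb C (C.kk_le_kb (r_mem_kk C))
  have ht : ‖C.t‖ < 1 := C.disc.2.1
  rcases ha with rfl | rfl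
  · rw [Ctx.s1, add_sub_cancel_left, mul_comm]
    exact norm_mul_lt_one ht hr
  · rw [Ctx.s2, add_sub_cancel_left, mul_comm]
    exact norm_mul_lt_one ht (norm_add_le_one hr (by simp))

omit [IsUltrametricDist Ω] [IsAlgClosed Ω] [CharP Ω 2] in
theorem norm_s : ‖C.s‖ = 1 :=
  C.k0_norm _ C.s_mem fun h => C.s_not_sq 0 (zero_mem _) (by simp [h])

omit [IsUltrametricDist Ω] [IsAlgClosed Ω] [CharP Ω 2] in
theorem norm_root_s {ω : Ω} {m : ℕ} (hω : ω ^ 2 ^ m = C.s) : ‖ω‖ ≤ 1 :=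
  norm_le_one_of_pow (n := 2 ^ m) (by positivity) (by rw [hω, norm_s])

omit [IsAlgClosed Ω] in
theorem norm_root_a {a : Ω} (ha : a = C.s1 ∨ a = C.s2) {η : Ω} {m : ℕ} (hη : η ^ 2 ^ m = a) : ‖η‖ ≤ 1 := by
  refine norm_le_one_of_pow (n := 2 ^ m) (by positivity) ?_
  rw [hη]
  have h1 : a = (a - C.s) + C.s := by ring
  rw [h1]
  exact norm_add_le_one (norm_a_sub_s C ha).le (norm_s C).le

omit [IsAlgClosed Ω] in
theorem norm_root_sub {a : Ω} (ha : a = C.s1 ∨ a = C.s2) {η ω : Ω} {m : ℕ} (hη : η ^ 2 ^ m = a)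
    (hω : ω ^ 2 ^ m = C.s) : ‖η - ω‖ < 1 := by
  have : Fact (Nat.Prime 2) := ⟨Nat.prime_two⟩
  refine norm_lt_one_of_pow (n := 2 ^ m) (by positivity) ?_
  rw [sub_pow_char_pow, hη, hω]
  exact norm_a_sub_s C ha

omit [IsUltrametricDist Ω] [IsAlgClosed Ω] [CharP Ω 2] in
theorem root_s_mem_kb {ω : Ω} {m : ℕ} (hω : ω ^ 2 ^ m = C.s) : ω ∈ C.kb := by
  rw [C.mem_kb]
  have h1 : IsAlgebraic C.k0 (ω ^ 2 ^ m) := by
    rw [hω]
    exact isAlgebraic_algebraMap (⟨C.s, C.s_mem⟩ : C.k0)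
  exact h1.of_pow (by positivity)

/-- `‖MM a‖ = ‖FF‖` -/
theorem normLe_MM
    (H3 : ∀ (m : ℕ) (e e' : Fin (2 ^ m) → Ω), (∀ i, e' i ∈ C.kb) → LinearIndependent C.kk e' →
      (∀ i, ‖e i - e' i‖ < 1) → ∀ c : Fin (2 ^ m) → Ω, (∀ i, c i ∈ C.FF) →
        ∃ y ∈ C.FF, ‖y‖ = ‖∑ j, c j * e j‖)
    (H6 : ∀ (m : ℕ) (ω : Ω), ω ^ 2 ^ m = C.s → LinearIndependent C.kk (fun j : Fin (2 ^ m) => ω ^ (j : ℕ)))
    (a : Ω) (ha : a = C.s1 ∨ a = C.s2) : NormLe C.FF (C.MM a) := by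
  intro x hx
  obtain ⟨m, η, c, hη, hc, rfl⟩ := exists_coord (a_mem_FF C ha) hx
  obtain ⟨ω, hω⟩ := exists_root C.s m
  refine H3 m (fun i => η ^ (i : ℕ)) (fun i => ω ^ (i : ℕ)) (fun i => pow_mem (root_s_mem_kb C hω) _) (H6 m ω hω)
    (fun i => norm_pow_sub_pow_lt (norm_root_sub C ha hη hω) (norm_root_a C ha hη) (norm_root_s C hω) _) c hc

theorem disc_MM
    (H3 : ∀ (m : ℕ) (e e' : Fin (2 ^ m) → Ω), (∀ i, e' i ∈ C.kb) → LinearIndependent C.kk e' →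
      (∀ i, ‖e i - e' i‖ < 1) → ∀ c : Fin (2 ^ m) → Ω, (∀ i, c i ∈ C.FF) →
        ∃ y ∈ C.FF, ‖y‖ = ‖∑ j, c j * e j‖)
    (H6 : ∀ (m : ℕ) (ω : Ω), ω ^ 2 ^ m = C.s → LinearIndependent C.kk (fun j : Fin (2 ^ m) => ω ^ (j : ℕ)))
    (H4 : Disc C.FF C.t) (a : Ω) (ha : a = C.s1 ∨ a = C.s2) : Disc (C.MM a) C.t := by
  refine ⟨C.disc.1, C.disc.2.1, fun x hx hx0 => ?_⟩
  obtain ⟨y, hy, hyx⟩ := normLe_MM C H3 H6 a ha x hx
  have hy0 : y ≠ 0 := by
    rintro rfl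
    rw [norm_zero] at hyx
    exact hx0 (norm_eq_zero.1 hyx.symm)
  obtain ⟨n, hn⟩ := H4.2.2 y hy hy0
  exact ⟨n, hyx ▸ hn⟩

theorem res_MM (H5 : ∀ x ∈ C.kk, ∃ a ∈ C.kk, ∃ b ∈ C.kk, x = a ^ 2 + C.s * b ^ 2)
    (a : Ω) (ha : a = C.s1 ∨ a = C.s2) : ResFull (C.MM a) := by
  have : Fact (Nat.Prime 2) := ⟨Nat.prime_two⟩
  have key : ∀ (m : ℕ) (b : Ω), b ^ 2 ^ m ∈ C.kk → ∃ y ∈ C.MM a, ‖b - y‖ < 1 := by
    intro m
    induction m with
    | zero =>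
      intro b hb
      exact ⟨b, C.FF_le_MM a (C.kk_le_FF (by simpa using hb)), by simp⟩
    | succ m ih =>
      intro b hb
      obtain ⟨u, hu, v, hv, huv⟩ := H5 _ hb
      obtain ⟨u', hu'⟩ := exists_root u m
      obtain ⟨v', hv'⟩ := exists_root v m
      obtain ⟨ω, hω⟩ := exists_root C.s (m + 1)
      obtain ⟨η, hη⟩ := exists_root a (m + 1)
      obtain ⟨y₁, hy₁, h1⟩ := ih u' (by rw [hu']; exact hu)
      obtain ⟨y₂, hy₂, h2⟩ := ih v' (by rw [hv']; exact hv)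
      have hb' : b = u' + ω * v' := by
        refine pow_inj (m := m + 1) ?_
        rw [huv, add_pow_char_pow, mul_pow, hω, pow_succ 2 m, pow_mul, pow_mul, hu', hv']
      have hη' : η ∈ C.MM a := (le_sup_right : _ ≤ C.MM a) (Subfield.subset_closure ⟨m + 1, hη⟩)
      have hv1 : ‖v'‖ ≤ 1 := norm_le_one_of_pow (n := 2 ^ m) (by positivity)
        (by rw [hv']; exact norm_le_one_of_mem_kb C (C.kk_le_kb hv))
      refine ⟨y₁ + η * y₂, add_mem hy₁ (mul_mem hη' hy₂), ?_⟩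
      have h3 : b - (y₁ + η * y₂) = (u' - y₁) + ((v' - y₂) * η + (ω - η) * v') := by
        rw [hb']
        ring
      rw [h3]
      refine norm_add_lt_one h1 (norm_add_lt_one (norm_mul_lt_one h2 (norm_root_a C ha hη))
        (norm_mul_lt_one ?_ hv1))
      rw [norm_sub_rev]
      exact norm_root_sub C ha hη hω
  intro x hx
  obtain ⟨b, hb, hxb⟩ := N2c_res C hx
  obtain ⟨m, hm⟩ := exists_pow_separable C.k0 (C.mem_kb.1 hb)
  obtain ⟨y, hy, hby⟩ := key m b (C.mem_kk.2 hm)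
  refine ⟨y, hy, ?_⟩
  have h1 : x - y = (x - b) + (b - y) := by ring
  rw [h1]
  exact norm_add_lt_one hxb hby

set_option linter.unusedSectionVars false in
theorem N7d_pi (a : Ω) (ha : a = C.s1 ∨ a = C.s2) : ∀ x ∈ C.MM a, ∃ m : ℕ, x ^ 2 ^ m ∈ C.FF :=
  fun _ hx => exists_pow_mem (a_mem_FF C ha) hx

end ctx

end Groth.Agent.EtAlg.K750.RefN7a
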